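import Groth.Agent.NonAbH1.K494.Push
import Groth.Agent.NonAbH1.K553.Bc

/-!
# Push-forward and comparison of base changes, in the shape of S18518
-/

set_option autoImplicit false
universe u

open CategoryTheory CategoryTheory.Limits MonoidalCategory CartesianMonoidalCategory MonObj GrpObj AlgebraicGeometry

namespace K494.Push

/-- `Z, C` two schemes over `B`, `D` a scheme over both; a torsor `QZ` over `Z` under `H` and a torsor `Q` over `C` under
`H` which become isomorphic over `D`; then the push-forward of `QZ` and the push-forward `α` of `Q` along `φ : H ⟶ G`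
become isomorphic over `D`. -/
theorem exists_push_compare {K : Precoverage Scheme.{u}} [K.IsStableUnderBaseChange] (hK : K ≤ Scheme.fpqcPrecoverage)
    {B Z C D : Scheme.{u}} (z : Z ⟶ B) (c : C ⟶ B) (m : D ⟶ Z) (n : D ⟶ C) {d : D ⟶ B} (hm : m ≫ z = d) (hn : n ≫ c = d)
    {H G : Over B} [GrpObj H] [GrpObj G] [IsAffineHom G.hom] (φ : H ⟶ G) [IsMonHom φ]
    (QZ : NonAbH1.TorsorSch (Red.bc z H) K) (Q : NonAbH1.TorsorSch (Red.bc c H) K)
    (α : NonAbH1.TorsorSch (Red.bc c G) K)
    (hα : NonAbH1.IsPushforwardAlongSch ((Over.pullback c).map φ) Q.act α.act)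
    (hQ : Nonempty (NonAbH1.EquivIso ((QZ.act.bc m).restrict (ActBC.bcCompIso m z H hm).inv)
      ((Q.act.bc n).restrict (ActBC.bcCompIso n c H hn).inv))) :
    ∃ P : NonAbH1.TorsorSch (Red.bc z G) K, IsAffineHom P.X.hom ∧
      NonAbH1.IsPushforwardAlongSch ((Over.pullback z).map φ) QZ.act P.act ∧
      Nonempty (NonAbH1.EquivIso ((P.act.bc m).restrict (ActBC.bcCompIso m z G hm).inv)
        ((α.act.bc n).restrict (ActBC.bcCompIso n c G hn).inv)) := by
  have : IsAffineHom (Red.bc z G).hom := MorphismProperty.pullback_snd (P := @IsAffineHom) G.hom z inferInstance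
  obtain ⟨P, hP, hp⟩ := exists_push hK ((Over.pullback z).map φ) QZ
  refine ⟨P, hP, hp, ?_⟩
  obtain ⟨e⟩ := hQ
  exact nonempty_equivIso hK
    (K553.Bc.isTorsorFor_restrict (NonAbH1.isTorsorFor_bc m K QZ.isTorsor) _)
    (K553.Bc.isPseudoTorsorSch_restrict (NonAbH1.isPseudoTorsorSch_bc m P.isTorsor.1) _)
    (K553.Bc.isPseudoTorsorSch_restrict (NonAbH1.isPseudoTorsorSch_bc n α.isTorsor.1) _)
    (push_bc_restrict z m hm hp) (push_bc_restrict c n hn hα) e

/-- The shape of S18518. -/
theorem row {k : Type u} [Field k] (G S : Over (Spec (CommRingCat.of k))) [GrpObj G] [IsAffine G.left] [GrpObj S]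
    (i : S ⟶ G) [IsMonHom i] {K : Type u} [Field K] [Algebra k K]
    (α : NonAbH1.TorsorSch (Red.bc (Spec.map (CommRingCat.ofHom (algebraMap k K))) G) Scheme.etalePrecoverage)
    (Q : NonAbH1.TorsorSch (Red.bc (Spec.map (CommRingCat.ofHom (algebraMap k K))) S) Scheme.etalePrecoverage)
    (hQ : NonAbH1.IsPushforwardAlongSch ((Over.pullback (Spec.map (CommRingCat.ofHom (algebraMap k K)))).map i)
      Q.act α.act)
    {L : Type u} [Field L] [Algebra K L] {Z : Scheme.{u}} (z : Z ⟶ Spec (CommRingCat.of k))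
    (m : Spec (CommRingCat.of L) ⟶ Z)
    (hz : m ≫ z = Spec.map (CommRingCat.ofHom (algebraMap K L)) ≫ Spec.map (CommRingCat.ofHom (algebraMap k K)))
    (QZ : NonAbH1.TorsorSch (Red.bc z S) Scheme.etalePrecoverage)
    (hc : Nonempty (NonAbH1.EquivIso ((QZ.act.bc m).restrict (ActBC.bcCompIso m z S hz).inv)
      ((Q.act.bc (Spec.map (CommRingCat.ofHom (algebraMap K L)))).restrict
        (ActBC.bcCompIso (Spec.map (CommRingCat.ofHom (algebraMap K L)))
          (Spec.map (CommRingCat.ofHom (algebraMap k K))) S rfl).inv))) :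
    ∃ P : NonAbH1.TorsorSch (Red.bc z G) Scheme.etalePrecoverage,
      Nonempty (NonAbH1.EquivIso ((P.act.bc m).restrict (ActBC.bcCompIso m z G hz).inv)
        ((α.act.bc (Spec.map (CommRingCat.ofHom (algebraMap K L)))).restrict
          (ActBC.bcCompIso (Spec.map (CommRingCat.ofHom (algebraMap K L)))
            (Spec.map (CommRingCat.ofHom (algebraMap k K))) G rfl).inv)) := by
  have : IsAffineHom G.hom := isAffineHom_of_isAffine G.hom
  obtain ⟨P, -, -, h⟩ := exists_push_compare K826.Descend.etale_le_fpqc z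
    (Spec.map (CommRingCat.ofHom (algebraMap k K))) m (Spec.map (CommRingCat.ofHom (algebraMap K L))) hz rfl i QZ Q α
    hQ hc
  exact ⟨P, h⟩

end K494.Push
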