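import Groth.Agent.Pi1A.NormalFF
import Groth.Agent.NonAbH1.K494.PushRow
import Groth.Agent.NeronHD.K776.SmoothLqf
import Groth.Agent.Localalg.CartierSch

/-!
# Extension of torsors under finite etale groups from the generic point of a normal scheme
-/

set_option autoImplicit false
universe u

open CategoryTheory CategoryTheory.Limits MonoidalCategory CartesianMonoidalCategory MonObj GrpObj AlgebraicGeometry

namespace K494.Ext

/-- finite etale objects -/
def FE {Z : Scheme.{u}} (A : Over Z) : Prop := IsFinite A.hom ∧ Etale A.hom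

/-- full faithfulness of `Over.pullback m` on finite etale objects -/
def FF {Z D : Scheme.{u}} (m : D ⟶ Z) : Prop :=
  ∀ A B : Over Z, FE A → FE B → Function.Bijective (fun f : A ⟶ B => (Over.pullback m).map f)

lemma FE.prod {Z : Scheme.{u}} {A B : Over Z} (hA : FE A) (hB : FE B) : FE (A ⊗ B) := by
  have := hA.1; have := hA.2; have := hB.1; have := hB.2
  have e : (A ⊗ B).hom = pullback.fst A.hom B.hom ≫ A.hom := rfl
  exact ⟨by rw [e]; infer_instance, by rw [e]; infer_instance⟩

lemma FE.unit (Z : Scheme.{u}) : FE (𝟙_ (Over Z)) :=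
  ⟨inferInstanceAs (IsFinite (𝟙 Z)), inferInstanceAs (Etale (𝟙 Z))⟩

lemma FE.bc {Z D : Scheme.{u}} {A : Over Z} (hA : FE A) (m : D ⟶ Z) : FE (Red.bc m A) := by
  have := hA.1; have := hA.2
  exact ⟨MorphismProperty.pullback_snd (P := @IsFinite) A.hom m inferInstance,
    MorphismProperty.pullback_snd (P := @Etale) A.hom m inferInstance⟩

/-- Full faithfulness at the generic point of a normal integral scheme. -/
theorem ff_of_generic {Z D : Scheme.{u}} [IsIntegral Z] (hZ : Pi1.IsNormalScheme Z) (m : D ⟶ Z)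
    [hpre : IsPreimmersion m] (hr : Set.range m = {genericPoint Z}) : FF m := by
  obtain ⟨h1, h2⟩ : (FEt.restrict m).Full ∧ (FEt.restrict m).Faithful := by
    apply Groth.Agent.Pi1A.NormalFF.fullyFaithful_of_normal hZ
    · intro T
      have : IsPreimmersion (pullback.fst T.hom m) := MorphismProperty.pullback_fst _ _ hpre
      exact (pullback.fst T.hom m).isEmbedding.injective
    · rw [hr]; rfl
    · intro T W hW ⟨w, hw⟩
      refine ⟨w, hw, ?_⟩
      have : T.hom (pullback.fst T.hom m w) ∈ Set.range m := by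
        rw [← Scheme.Hom.comp_apply, pullback.condition, Scheme.Hom.comp_apply]
        exact ⟨_, rfl⟩
      rwa [hr] at this
  intro A B hA hB
  let A' : FEt.Cat Z := MorphismProperty.Over.mk ⊤ A.hom ⟨hA.1, hA.2⟩
  let B' : FEt.Cat Z := MorphismProperty.Over.mk ⊤ B.hom ⟨hB.1, hB.2⟩
  constructor
  · intro f g h
    let f' : A' ⟶ B' := MorphismProperty.Over.homMk f.left (Over.w f)
    let g' : A' ⟶ B' := MorphismProperty.Over.homMk g.left (Over.w g)
    have h' : (FEt.restrict m).map f' = (FEt.restrict m).map g' := by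
      ext
      exact congrArg (fun t => t.left) h
    have := (FEt.restrict m).map_injective h'
    ext
    exact congrArg (fun t => t.left) this
  · intro φ
    let φ' : (FEt.restrict m).obj A' ⟶ (FEt.restrict m).obj B' := MorphismProperty.Over.homMk φ.left (Over.w φ)
    obtain ⟨f, hf⟩ := (FEt.restrict m).map_surjective φ'
    refine ⟨Over.homMk f.left (Over.w f.hom), ?_⟩
    ext
    exact congrArg (fun t => t.left) hf

section core

variable {Z D : Scheme.{u}} {m : D ⟶ Z} (hF : FF m) {H T : Over Z} [GrpObj H] (hH : FE H) (hT : FE T)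

include hF in
lemma FF.inj {A B : Over Z} (hA : FE A) (hB : FE B) {f g : A ⟶ B}
    (h : (Over.pullback m).map f = (Over.pullback m).map g) : f = g := (hF A B hA hB).1 h

include hF in
/-- `Over.pullback m` reflects isomorphisms between finite etale objects. -/
lemma FF.isIso {A B : Over Z} (hA : FE A) (hB : FE B) (f : A ⟶ B) (h : IsIso ((Over.pullback m).map f)) : IsIso f := by
  obtain ⟨g, hg⟩ := (hF B A hB hA).2 (inv ((Over.pullback m).map f))
  refine ⟨g, hF.inj hA hA ?_, hF.inj hB hB ?_⟩
  · rw [Functor.map_comp, CategoryTheory.Functor.map_id]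
    exact (congrArg (_ ≫ ·) hg).trans (IsIso.hom_inv_id _)
  · rw [Functor.map_comp, CategoryTheory.Functor.map_id]
    exact (congrArg (· ≫ _) hg).trans (IsIso.inv_hom_id _)

include hF hH hT in
/-- Actions of finite etale group schemes on finite etale schemes extend. -/
theorem exists_action (b : AlgGrp.Action (Red.bc m H) (Red.bc m T)) :
    ∃ act : AlgGrp.Action H T, act.bc m = b := by
  obtain ⟨α, hα⟩ := (hF (H ⊗ T) T (hH.prod hT) hT).2 (inv (Functor.LaxMonoidal.μ (Over.pullback m) H T) ≫ b.act)
  replace hα : (Over.pullback m).map α = inv (Functor.LaxMonoidal.μ (Over.pullback m) H T) ≫ b.act := hα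
  have hμ : Functor.LaxMonoidal.μ (Over.pullback m) H T ≫ (Over.pullback m).map α = b.act := by
    rw [hα, IsIso.hom_inv_id_assoc]
  have one_act : η[H] ▷ T ≫ α = (λ_ T).hom := by
    refine hF.inj ((FE.unit Z).prod hT) hT ?_
    have h1 := b.one_act
    rw [← hμ, Functor.obj.η_def, comp_whiskerRight, Category.assoc, Functor.LaxMonoidal.μ_natural_left_assoc,
      ← Functor.map_comp] at h1
    have h2 := Functor.LaxMonoidal.left_unitality (Over.pullback m) T
    rw [h2, cancel_epi, cancel_epi] at h1
    exact h1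
  have mul_act : μ[H] ▷ T ≫ α = (α_ H H T).hom ≫ H ◁ α ≫ α := by
    refine hF.inj ((hH.prod hH).prod hT) hT ?_
    have h1 := b.mul_act
    rw [← hμ, Functor.obj.μ_def, comp_whiskerRight, Category.assoc, Functor.LaxMonoidal.μ_natural_left_assoc,
      ← Functor.map_comp, MonoidalCategory.whiskerLeft_comp, Category.assoc,
      Functor.LaxMonoidal.μ_natural_right_assoc, ← Functor.map_comp,
      ← Functor.LaxMonoidal.associativity_assoc, ← Functor.map_comp] at h1
    rw [cancel_epi, cancel_epi] at h1
    exact h1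
  exact ⟨⟨α, one_act, mul_act⟩, AlgGrp.Action.ext' hμ⟩

include hF hH hT in
/-- The extended action is a pseudo-torsor if the given one is. -/
theorem isPseudoTorsorSch_of_bc {act : AlgGrp.Action H T} (h : NonAbH1.IsPseudoTorsorSch (act.bc m)) :
    NonAbH1.IsPseudoTorsorSch act := by
  have key : lift (act.bc m).act (snd _ _) ≫ Functor.LaxMonoidal.μ (Over.pullback m) T T =
      Functor.LaxMonoidal.μ (Over.pullback m) H T ≫ (Over.pullback m).map (lift act.act (snd H T)) := by
    rw [← Functor.Monoidal.lift_μ, comp_lift_assoc, Functor.Monoidal.μ_snd, AlgGrp.Action.bc_act]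
  refine hF.isIso (hH.prod hT) (hT.prod hT) _ ?_
  have : IsIso (lift (act.bc m).act (snd _ _)) := h
  have : IsIso (Functor.LaxMonoidal.μ (Over.pullback m) H T ≫ (Over.pullback m).map (lift act.act (snd H T))) := by
    rw [← key]; infer_instance
  exact IsIso.of_isIso_comp_left (Functor.LaxMonoidal.μ (Over.pullback m) H T) _

end core

section transport

variable {S : Scheme.{u}} {G X Y : Over S} [GrpObj G]

/-- transport of an action along an isomorphism -/
noncomputable def transport (a : AlgGrp.Action G X) (θ : Y ≅ X) : AlgGrp.Action G Y where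
  act := G ◁ θ.hom ≫ a.act ≫ θ.inv
  one_act := by
    rw [← whisker_exchange_assoc, reassoc_of% a.one_act, leftUnitor_naturality_assoc, Iso.hom_inv_id, Category.comp_id]
  mul_act := by
    rw [← whisker_exchange_assoc, reassoc_of% a.mul_act]
    simp only [MonoidalCategory.whiskerLeft_comp, Category.assoc]
    rw [← MonoidalCategory.whiskerLeft_comp_assoc G θ.inv θ.hom, Iso.inv_hom_id, MonoidalCategory.whiskerLeft_id,
      Category.id_comp]
    simp

/-- the tautological equivariant isomorphism -/
noncomputable def transportIso (a : AlgGrp.Action G X) (θ : Y ≅ X) : NonAbH1.EquivIso (transport a θ) a where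
  iso := θ
  comm := by
    change (G ◁ θ.hom ≫ a.act ≫ θ.inv) ≫ θ.hom = _
    simp

/-- A scheme with action isomorphic to a pseudo-torsor is a pseudo-torsor. -/
lemma isPseudo_of_equivIso {a : AlgGrp.Action G Y} {a' : AlgGrp.Action G X} (e : NonAbH1.EquivIso a a')
    (h : NonAbH1.IsPseudoTorsorSch a') : NonAbH1.IsPseudoTorsorSch a := by
  have h1 : IsIso (lift a'.act (snd G X)) := h
  have h2 : lift a.act (snd G Y) = (G ◁ e.iso.hom) ≫ lift a'.act (snd G X) ≫ (e.iso.inv ⊗ₘ e.iso.inv) := by
    rw [← cancel_mono (e.iso.hom ⊗ₘ e.iso.hom)]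
    simp only [Category.assoc, Iso.inv_hom_id, Category.comp_id, lift_map, e.comm, comp_lift]
    congr 1
    simp
  change IsIso (lift a.act (snd G Y))
  rw [h2]
  infer_instance

end transport

/-- Extension of a torsor under a finite etale group from a scheme `D` on which finite etale schemes over `Z` are
determined fully faithfully. -/
theorem exists_torsor_of_ff {B Z D : Scheme.{u}} {m : D ⟶ Z} (hF : FF m) (z : Z ⟶ B) {d : D ⟶ B} (hm : m ≫ z = d)
    (H : Over B) [GrpObj H] [IsFinite H.hom] [Etale H.hom] (T : Over Z) [IsFinite T.hom] [Etale T.hom]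
    (hsurj : Surjective T.hom) {X : Over D} (a : AlgGrp.Action (Red.bc d H) X) (ha : NonAbH1.IsPseudoTorsorSch a)
    (θ : Red.bc m T ≅ X) :
    ∃ act : AlgGrp.Action (Red.bc z H) T, NonAbH1.IsTorsorFor Scheme.etalePrecoverage act ∧
      Nonempty (NonAbH1.EquivIso ((act.bc m).restrict (ActBC.bcCompIso m z H hm).inv) a) := by
  have hH : FE (Red.bc z H) := FE.bc ⟨inferInstance, inferInstance⟩ z
  have hT : FE T := ⟨inferInstance, inferInstance⟩
  obtain ⟨act, hact⟩ := exists_action hF hH hT (transport (a.restrict (ActBC.bcCompIso m z H hm).hom) θ)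
  have hps : NonAbH1.IsPseudoTorsorSch (act.bc m) := by
    rw [hact]
    exact K494.Ext.isPseudo_of_equivIso (transportIso _ θ) (K553.Bc.isPseudoTorsorSch_restrict ha _)
  refine ⟨act, ⟨isPseudoTorsorSch_of_bc hF hH hT hps, ?_⟩, ?_⟩
  · refine ⟨Presieve.singleton T.hom, ?_, ?_⟩
    · exact (Scheme.singleton_mem_precoverage_iff (P := @Etale) T.hom).2 ⟨hsurj.surj, inferInstance⟩
    · rintro S' f ⟨⟩
      exact ⟨𝟙 _, Category.id_comp _⟩
  · have e := K553.Bc.equivIsoRestrict (transportIso (a.restrict (ActBC.bcCompIso m z H hm).hom) θ)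
      (ActBC.bcCompIso m z H hm).inv
    have h1 : (a.restrict (ActBC.bcCompIso m z H hm).hom).restrict (ActBC.bcCompIso m z H hm).inv = a := by
      refine AlgGrp.Action.ext' ?_
      rw [AlgGrp.Action.restrict_act, AlgGrp.Action.restrict_act, ← Category.assoc, ← comp_whiskerRight,
        Iso.inv_hom_id, id_whiskerRight, Category.id_comp]
    rw [h1, ← hact] at e
    exact ⟨e⟩

/-- The extension theorem at the generic point of a normal integral scheme. -/
theorem exists_torsor {B Z D : Scheme.{u}} [IsIntegral Z] (hZ : Pi1.IsNormalScheme Z) (m : D ⟶ Z) [IsPreimmersion m]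
    (hr : Set.range m = {genericPoint Z}) (z : Z ⟶ B) {d : D ⟶ B} (hm : m ≫ z = d)
    (H : Over B) [GrpObj H] [IsFinite H.hom] [Etale H.hom] (T : Over Z) [IsFinite T.hom] [Etale T.hom]
    (Q : NonAbH1.TorsorSch (Red.bc d H) Scheme.etalePrecoverage) (θ : Red.bc m T ≅ Q.X) :
    ∃ QZ : NonAbH1.TorsorSch (Red.bc z H) Scheme.etalePrecoverage,
      QZ.X = T ∧ Nonempty (NonAbH1.EquivIso ((QZ.act.bc m).restrict (ActBC.bcCompIso m z H hm).inv) Q.act) := by
  have hT : Surjective T.hom := by
    have hop : IsOpen (Set.range T.hom) := T.hom.isOpenMap.isOpen_range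
    have hcl : IsClosed (Set.range T.hom) := (T.hom.isClosedMap).isClosed_range
    have hne : (Set.range T.hom).Nonempty := by
      obtain ⟨x, -⟩ : genericPoint Z ∈ Set.range m := by rw [hr]; rfl
      have hl : NonAbH1.IsLocallyTrivialFor Scheme.fpqcPrecoverage Q.X := by
        obtain ⟨R, hR, h⟩ := Q.isTorsor.2
        exact ⟨R, K826.Descend.etale_le_fpqc _ hR, h⟩
      obtain ⟨S', f, -, hf, y, -, -⟩ := K826.TorsCover.exists_cover hl
      obtain ⟨x', -⟩ := hf.surj x
      exact ⟨_, ⟨(pullback.fst T.hom m) (θ.inv.left (y x')), rfl⟩⟩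
    exact ⟨Set.range_eq_univ.1 (IsClopen.eq_univ ⟨hcl, hop⟩ hne)⟩
  obtain ⟨act, h1, h2⟩ := exists_torsor_of_ff (ff_of_generic hZ m hr) z hm H T hT Q.act Q.isTorsor.1 θ
  exact ⟨⟨T, act, h1⟩, rfl, h2⟩

instance isPreimmersion_functionField {Z : Scheme.{u}} [IsIntegral Z] {D : Scheme.{u}} (e : D ≅ Spec Z.functionField) :
    IsPreimmersion (e.hom ≫ Z.fromSpecStalk (genericPoint Z)) := inferInstance

lemma range_functionField {Z : Scheme.{u}} [IsIntegral Z] {D : Scheme.{u}} (e : D ≅ Spec Z.functionField) :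
    Set.range (e.hom ≫ Z.fromSpecStalk (genericPoint Z)) = {genericPoint Z} := by
  have h1 : Set.range (e.hom ≫ Z.fromSpecStalk (genericPoint Z)) = Set.range (Z.fromSpecStalk (genericPoint Z)) := by
    ext y
    constructor
    · rintro ⟨x, rfl⟩
      exact ⟨e.hom x, rfl⟩
    · rintro ⟨x, rfl⟩
      obtain ⟨w, rfl⟩ := e.hom.surjective x
      exact ⟨w, rfl⟩
  rw [h1, Scheme.range_fromSpecStalk]
  ext y
  constructor
  · intro h
    exact (h.antisymm (genericPoint_specializes y)).eq
  · rintro rfl
    exact specializes_rfl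

/-- The shape of S18518: from a finite etale scheme `T` over a normal model `Z` of `L` whose generic fibre is `Q_L`, the
torsor `α` extends to `Z` over `L`. -/
theorem row {k : Type u} [Field k] [CharZero k] (G S : Over (Spec (CommRingCat.of k))) [GrpObj G] [IsAffine G.left]
    [GrpObj S] [IsFinite S.hom] (i : S ⟶ G) [IsMonHom i] {K : Type u} [Field K] [Algebra k K]
    (α : NonAbH1.TorsorSch (Red.bc (Spec.map (CommRingCat.ofHom (algebraMap k K))) G) Scheme.etalePrecoverage)
    (Q : NonAbH1.TorsorSch (Red.bc (Spec.map (CommRingCat.ofHom (algebraMap k K))) S) Scheme.etalePrecoverage)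
    (hQ : NonAbH1.IsPushforwardAlongSch ((Over.pullback (Spec.map (CommRingCat.ofHom (algebraMap k K)))).map i)
      Q.act α.act)
    {L : Type u} [Field L] [Algebra K L] {Z : Scheme.{u}} [IsIntegral Z] (hZ : Pi1.IsNormalScheme Z)
    (z : Z ⟶ Spec (CommRingCat.of k)) (e : Spec (CommRingCat.of L) ≅ Spec Z.functionField)
    (hz : (e.hom ≫ Z.fromSpecStalk (genericPoint Z)) ≫ z =
      Spec.map (CommRingCat.ofHom (algebraMap K L)) ≫ Spec.map (CommRingCat.ofHom (algebraMap k K)))
    (T : Over Z) [IsFinite T.hom] [Etale T.hom]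
    (θ : Red.bc (e.hom ≫ Z.fromSpecStalk (genericPoint Z)) T ≅
      Red.bc (Spec.map (CommRingCat.ofHom (algebraMap K L))) Q.X) :
    ∃ P : NonAbH1.TorsorSch (Red.bc z G) Scheme.etalePrecoverage,
      Nonempty (NonAbH1.EquivIso
        ((P.act.bc (e.hom ≫ Z.fromSpecStalk (genericPoint Z))).restrict
          (ActBC.bcCompIso (e.hom ≫ Z.fromSpecStalk (genericPoint Z)) z G hz).inv)
        ((α.act.bc (Spec.map (CommRingCat.ofHom (algebraMap K L)))).restrict
          (ActBC.bcCompIso (Spec.map (CommRingCat.ofHom (algebraMap K L)))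
            (Spec.map (CommRingCat.ofHom (algebraMap k K))) G rfl).inv)) := by
  have : Etale S.hom := by
    have : Smooth S.hom := @Groth.Agent.Localalg.CartierSch.smooth_of_grpObj_of_charZero k _ S.left S.hom _
      (inferInstanceAs (GrpObj S)) _
    exact K776.SmoothLqf.etale_of_smooth_of_locallyQuasiFinite S.hom
  obtain ⟨QZ, -, h⟩ := exists_torsor hZ (e.hom ≫ Z.fromSpecStalk (genericPoint Z)) (range_functionField e) z hz S T
    ⟨_, (Q.act.bc (Spec.map (CommRingCat.ofHom (algebraMap K L)))).restrict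
        (ActBC.bcCompIso (Spec.map (CommRingCat.ofHom (algebraMap K L)))
          (Spec.map (CommRingCat.ofHom (algebraMap k K))) S rfl).inv,
      K553.Bc.isTorsorFor_restrict (NonAbH1.isTorsorFor_bc _ _ Q.isTorsor) _⟩ θ
  exact K494.Push.row G S i α Q hQ z _ hz QZ h

end K494.Ext
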