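import Groth.Agent.PrincBund.K826.PushTors
import Groth.Agent.MultTori.K964.Pt
import Groth.Prelude.Def_ActBC

/-!
# Push-forward of torsors: existence, uniqueness, base change

* `exists_push`: push-forward of an etale (or `K ≤ fpqc`) torsor along a homomorphism to an affine group.
* `exists_equivIso`: two torsors which are push-forwards of isomorphic torsors are isomorphic.
* `push_bc`, `push_restrict`: `IsPushforwardAlongSch` is stable under base change, and base change followed by the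
  canonical identification `ActBC.bcCompIso`.
-/

set_option autoImplicit false
universe u

open CategoryTheory CategoryTheory.Limits MonoidalCategory CartesianMonoidalCategory MonObj GrpObj AlgebraicGeometry

namespace K494.Push

open K964.Pt

variable {S : Scheme.{u}} {H G X Y : Over S} [GrpObj H] [GrpObj G]

/-- equivariance along a homomorphism, on points -/
lemma push_iff {φ : H ⟶ G} {a : AlgGrp.Action H X} {b : AlgGrp.Action G Y} (f : X ⟶ Y) :
    a.act ≫ f = lift (fst H X ≫ φ) (snd H X ≫ f) ≫ b.act ↔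
      ∀ (T : Over S) (g : T ⟶ H) (x : T ⟶ X), sm a g x ≫ f = sm b (g ≫ φ) (x ≫ f) := by
  constructor
  · intro h T g x
    rw [sm, sm, Category.assoc, h, comp_lift_assoc, lift_fst_assoc, lift_snd_assoc]
  · intro h
    have h1 := h (H ⊗ X) (fst H X) (snd H X)
    rw [sm, sm, lift_fst_snd, Category.id_comp] at h1
    exact h1

/-- an equivariant morphism along `φ` transforms differences by `φ` -/
lemma df_push {φ : H ⟶ G} {a : AlgGrp.Action H X} {b : AlgGrp.Action G Y}
    (ha : NonAbH1.IsPseudoTorsorSch a) (hb : NonAbH1.IsPseudoTorsorSch b) (f : X ⟶ Y)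
    (hf : a.act ≫ f = lift (fst H X ≫ φ) (snd H X ≫ f) ≫ b.act) {T : Over S} (x y : T ⟶ X) :
    df hb (x ≫ f) (y ≫ f) = df ha x y ≫ φ :=
  (eq_df hb (by rw [← (push_iff f).1 hf, sm_df])).symm

/-- Existence of the push-forward of a torsor along a homomorphism to an affine group scheme. -/
theorem exists_push {K : Precoverage Scheme.{u}} (hK : K ≤ Scheme.fpqcPrecoverage) [IsAffineHom G.hom]
    (φ : H ⟶ G) [IsMonHom φ] (Q : NonAbH1.TorsorSch H K) :
    ∃ P : NonAbH1.TorsorSch G K, IsAffineHom P.X.hom ∧ NonAbH1.IsPushforwardAlongSch φ Q.act P.act := by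
  have hl : NonAbH1.IsLocallyTrivialFor Scheme.fpqcPrecoverage Q.X := by
    obtain ⟨R, hR, h⟩ := Q.isTorsor.2
    exact ⟨R, hK _ hR, h⟩
  obtain ⟨E, hE, ⟨r⟩⟩ := K826.PushRep.exists_rep φ Q.act Q.isTorsor.1 hl
  let q := K826.PushTors.qE φ Q.act r Q.isTorsor.1
  exact ⟨⟨E, K826.PushTors.actE φ Q.act r, K826.PushTors.pseudo_actE φ Q.act r Q.isTorsor.1 hl,
    K826.BcTors.isLocallyTrivialFor_of_hom q Q.isTorsor.2⟩, hE, q, K826.PushTors.act_qE φ Q.act r Q.isTorsor.1⟩

/-- Two push-forwards of the same torsor are isomorphic. -/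
theorem exists_equivIso {K : Precoverage Scheme.{u}} (hK : K ≤ Scheme.fpqcPrecoverage) {φ : H ⟶ G} {Y' : Over S}
    {a : AlgGrp.Action H X} {b : AlgGrp.Action G Y} {b' : AlgGrp.Action G Y'} (ha : NonAbH1.IsTorsorFor K a)
    (hb : NonAbH1.IsPseudoTorsorSch b) (hb' : NonAbH1.IsPseudoTorsorSch b')
    (h : NonAbH1.IsPushforwardAlongSch φ a b) (h' : NonAbH1.IsPushforwardAlongSch φ a b') :
    Nonempty (NonAbH1.EquivIso b b') := by
  obtain ⟨f, hf⟩ := h
  obtain ⟨f', hf'⟩ := h'
  obtain ⟨e, -⟩ := K964.Pt.exists_equivIso hK hb hb' ha.2 f f' (by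
    rw [df_push ha.1 hb f hf, df_push ha.1 hb' f' hf'])
  exact ⟨e⟩

/-- The push-forward relation is invariant under isomorphism of the source. -/
lemma push_of_equivIso {φ : H ⟶ G} {X' : Over S} {a : AlgGrp.Action H X} {a' : AlgGrp.Action H X'}
    {b : AlgGrp.Action G Y} (e : NonAbH1.EquivIso a a') (h : NonAbH1.IsPushforwardAlongSch φ a' b) :
    NonAbH1.IsPushforwardAlongSch φ a b := by
  obtain ⟨f, hf⟩ := h
  refine ⟨e.iso.hom ≫ f, ?_⟩
  rw [← Category.assoc, e.comm, Category.assoc, hf, ← Category.assoc]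
  congr 1
  ext1 <;> simp

/-- Push-forwards of isomorphic torsors are isomorphic. -/
theorem nonempty_equivIso {K : Precoverage Scheme.{u}} (hK : K ≤ Scheme.fpqcPrecoverage) {φ : H ⟶ G} {X' Y' : Over S}
    {a : AlgGrp.Action H X} {a' : AlgGrp.Action H X'} {b : AlgGrp.Action G Y} {b' : AlgGrp.Action G Y'}
    (ha : NonAbH1.IsTorsorFor K a) (hb : NonAbH1.IsPseudoTorsorSch b) (hb' : NonAbH1.IsPseudoTorsorSch b')
    (h : NonAbH1.IsPushforwardAlongSch φ a b) (h' : NonAbH1.IsPushforwardAlongSch φ a' b')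
    (e : NonAbH1.EquivIso a a') : Nonempty (NonAbH1.EquivIso b b') :=
  exists_equivIso hK ha hb hb' h (push_of_equivIso e h')

section bc

variable {S' : Scheme.{u}} (f : S' ⟶ S)

/-- Base change of a push-forward. -/
lemma push_bc {φ : H ⟶ G} {a : AlgGrp.Action H X} {b : AlgGrp.Action G Y}
    (h : NonAbH1.IsPushforwardAlongSch φ a b) :
    NonAbH1.IsPushforwardAlongSch ((Over.pullback f).map φ) (a.bc f) (b.bc f) := by
  obtain ⟨p, hp⟩ := h
  refine ⟨(Over.pullback f).map p, ?_⟩
  have key : lift (fst (Red.bc f H) (Red.bc f X) ≫ (Over.pullback f).map φ)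
      (snd (Red.bc f H) (Red.bc f X) ≫ (Over.pullback f).map p) =
      Functor.LaxMonoidal.μ (Over.pullback f) H X ≫
        lift ((Over.pullback f).map (fst H X ≫ φ)) ((Over.pullback f).map (snd H X ≫ p)) := by
    rw [comp_lift, Functor.map_comp, Functor.map_comp, Functor.Monoidal.μ_fst_assoc, Functor.Monoidal.μ_snd_assoc]
  rw [AlgGrp.Action.bc_act, AlgGrp.Action.bc_act, Category.assoc, ← Functor.map_comp, hp, Functor.map_comp, key,
    Category.assoc, Functor.Monoidal.lift_μ_assoc]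

/-- restricting the target/source groups -/
lemma push_restrict {H₁ G₁ : Over S} [GrpObj H₁] [GrpObj G₁] {φ : H ⟶ G} {φ₁ : H₁ ⟶ G₁} {a : AlgGrp.Action H X}
    {b : AlgGrp.Action G Y} (u : H₁ ⟶ H) [IsMonHom u] (v : G₁ ⟶ G) [IsMonHom v] (w : φ₁ ≫ v = u ≫ φ)
    (h : NonAbH1.IsPushforwardAlongSch φ a b) :
    NonAbH1.IsPushforwardAlongSch φ₁ (a.restrict u) (b.restrict v) := by
  obtain ⟨p, hp⟩ := h
  refine ⟨p, ?_⟩
  rw [AlgGrp.Action.restrict_act, AlgGrp.Action.restrict_act, Category.assoc, hp, ← Category.assoc, ← Category.assoc]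
  congr 1
  ext1
  · simp [w]
  · simp

variable {S'' : Scheme.{u}} (g : S'' ⟶ S') {d : S'' ⟶ S}

/-- Base change of a push-forward over `S'` of groups coming from `S`. -/
lemma push_bc_restrict {φ : H ⟶ G} {X Y : Over S'} {a : AlgGrp.Action (Red.bc f H) X}
    {b : AlgGrp.Action (Red.bc f G) Y} (hd : g ≫ f = d)
    (h : NonAbH1.IsPushforwardAlongSch ((Over.pullback f).map φ) a b) :
    NonAbH1.IsPushforwardAlongSch ((Over.pullback d).map φ)
      ((a.bc g).restrict (ActBC.bcCompIso g f H hd).inv) ((b.bc g).restrict (ActBC.bcCompIso g f G hd).inv) := by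
  refine push_restrict _ _ ?_ (push_bc g h)
  rw [Iso.comp_inv_eq, Category.assoc, ActBC.bcCompIso_hom_naturality, Iso.inv_hom_id_assoc]

end bc

end K494.Push
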